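import Groth.Agent.QfHensFiniteLib.Basic
import Groth.Agent.PairHensLib.TensorHens
import Mathlib.RingTheory.LocalRing.ResidueField.Basic

/-! Henselizations at quasi-finite points. -/

set_option autoImplicit false
set_option linter.style.haveILetI false
set_option maxHeartbeats 800000
universe u

open IsLocalRing TensorProduct

namespace QfHensFiniteLib

open PairHensLib

variable {R S Rh Sh : Type u} [CommRing R] [CommRing S] [Algebra R S] {p : Ideal R} [p.IsPrime] {q : Ideal S} [q.IsPrime]
  [hlo : q.LiesOver p] [CommRing Rh] [IsLocalRing Rh] [Algebra (Localization.AtPrime p) Rh]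
  [IsLocalHom (algebraMap (Localization.AtPrime p) Rh)] [Algebra R Rh] [IsScalarTower R (Localization.AtPrime p) Rh]
  [CommRing Sh] [IsLocalRing Sh] [Algebra (Localization.AtPrime q) Sh]
  [IsLocalHom (algebraMap (Localization.AtPrime q) Sh)] [Algebra S Sh]
  [IsScalarTower S (Localization.AtPrime q) Sh] [Algebra R Sh] [IsScalarTower R S Sh]
  [Algebra Rh Sh] [IsScalarTower R Rh Sh] [Algebra.FiniteType R S] [Algebra.QuasiFiniteAt R q]

include p q hlo in
theorem finite_tensorPrime [HenselianLocalRing Rh] [IsLocalHom (algebraMap Rh Sh)] :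
    Module.Finite Rh (Localization.AtPrime (tensorPrime R S Rh Sh)) := by
  haveI : Algebra.QuasiFiniteAt Rh (tensorPrime R S Rh Sh) :=
    Algebra.QuasiFiniteAt.baseChange q (tensorPrime R S Rh Sh) (by
      ext x
      show x ∈ q ↔ (1 : Rh) ⊗ₜ[R] x ∈ tensorPrime R S Rh Sh
      rw [Ideal.mem_comap, mulTensor_right, mem_maximalIdeal_algebraMap_iff (q := q)])
  refine finite_atPrime (A := Rh) _ ?_
  ext r
  show (r ⊗ₜ[R] (1 : S)) ∈ tensorPrime R S Rh Sh ↔ r ∈ maximalIdeal Rh
  rw [Ideal.mem_comap, mulTensor_left, mem_maximalIdeal, mem_maximalIdeal, mem_nonunits_iff, mem_nonunits_iff,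
    isUnit_map_iff (algebraMap Rh Sh)]

include p q hlo in
theorem finite_henselization [Hensel.IsHenselization (Localization.AtPrime p) Rh]
    [Hensel.IsHenselization (Localization.AtPrime q) Sh] : Module.Finite Rh Sh := by
  haveI := Hensel.IsHenselization.henselian (R := Localization.AtPrime p) (S := Rh)
  haveI : IsLocalHom (algebraMap Rh Sh) := isLocalHom_of_compat (p := p) (q := q) hlo
    (map_maximalIdeal_of_isHenselization (Localization.AtPrime p) Rh)
  haveI := finite_tensorPrime (R := R) (S := S) (Rh := Rh) (Sh := Sh) (p := p) (q := q)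
  haveI := (henselianLocalRing_of_finite (A := Rh) (Localization.AtPrime (tensorPrime R S Rh Sh))).1
  haveI := isHenselization_self (Localization.AtPrime (tensorPrime R S Rh Sh))
  obtain ⟨e, he⟩ := exists_equiv_henselization (R := R) (S := S) (Rh := Rh) (Sh := Sh) (p := p) (q := q)
    (E := Localization.AtPrime (tensorPrime R S Rh Sh))
  refine Module.Finite.equiv (AlgEquiv.ofRingEquiv (f := e) fun r => ?_ :
    Localization.AtPrime (tensorPrime R S Rh Sh) ≃ₐ[Rh] Sh).toLinearEquiv
  have h1 := he (r ⊗ₜ (1 : S))
  rw [mulTensor_left, Algebra.algebraMap_self, RingHom.id_apply] at h1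
  exact h1

include p q hlo in
theorem finite_strictHenselization [Hensel.IsStrictHenselization (Localization.AtPrime p) Rh]
    [Hensel.IsStrictHenselization (Localization.AtPrime q) Sh] [IsLocalHom (algebraMap Rh Sh)] :
    Module.Finite Rh Sh ∧ Module.Finite (ResidueField Rh) (ResidueField Sh) ∧
      IsPurelyInseparable (ResidueField Rh) (ResidueField Sh) := by
  haveI := Hensel.IsStrictHenselization.henselian (R := Localization.AtPrime p) (S := Rh)
  haveI := (Hensel.IsStrictHenselization.isSepClosure (R := Localization.AtPrime p) (S := Rh)).sep_closed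
  haveI := finite_tensorPrime (R := R) (S := S) (Rh := Rh) (Sh := Sh) (p := p) (q := q)
  obtain ⟨hD, hD'⟩ := henselianLocalRing_of_finite (A := Rh) (Localization.AtPrime (tensorPrime R S Rh Sh))
  haveI := hD'
  haveI := hD
  haveI : IsSepClosed (ResidueField (Localization.AtPrime (tensorPrime R S Rh Sh))) :=
    (purelyInseparable_of_finite (ResidueField Rh) _).2
  haveI := isStrictHenselization_self (Localization.AtPrime (tensorPrime R S Rh Sh))
  obtain ⟨e, he⟩ := exists_equiv_strictHenselization (R := R) (S := S) (Rh := Rh) (Sh := Sh) (p := p) (q := q)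
    (E := Localization.AtPrime (tensorPrime R S Rh Sh))
  haveI : Module.Finite Rh Sh := Module.Finite.equiv (AlgEquiv.ofRingEquiv (f := e) fun r => by
    have h1 := he (r ⊗ₜ (1 : S))
    rw [mulTensor_left, Algebra.algebraMap_self, RingHom.id_apply] at h1
    exact h1 : Localization.AtPrime (tensorPrime R S Rh Sh) ≃ₐ[Rh] Sh).toLinearEquiv
  exact ⟨inferInstance, inferInstance, (purelyInseparable_of_finite (ResidueField Rh) (ResidueField Sh)).1⟩

end QfHensFiniteLib
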