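import Groth.Agent.EssEtCompleteLib.Basic
import Groth.Agent.HenselLib.Perm
import Groth.Prelude.Def_Hensel
import Mathlib.RingTheory.QuasiFinite.Basic
import Mathlib.FieldTheory.PurelyInseparable.Basic

/-! Local rings of quasi-finite algebras over henselian local rings. -/

set_option autoImplicit false
set_option linter.style.haveILetI false
universe u

open IsLocalRing

namespace QfHensFiniteLib

variable {A : Type u} [CommRing A] [HenselianLocalRing A]

/-- The local ring at a quasi-finite point over the closed point is finite. -/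
theorem finite_atPrime {C : Type u} [CommRing C] [Algebra A C] [Algebra.FiniteType A C] (q : Ideal C) [q.IsPrime]
    [Algebra.QuasiFiniteAt A q] (hq : q.comap (algebraMap A C) = maximalIdeal A) :
    Module.Finite A (Localization.AtPrime q) := by
  obtain ⟨e, he, hfin, hnq⟩ := HenselLib.exists_idem_quasiFinite (A := A) (B := C)
  have heq : e ∉ q := fun h => by
    have hle : Ideal.span {e} ≤ q := (Ideal.span_singleton_le_iff_mem _).2 h
    have hcm : (q.map (Ideal.Quotient.mk (Ideal.span {e}))).comap (Ideal.Quotient.mk (Ideal.span {e})) = q := by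
      rw [Ideal.comap_map_of_surjective _ Ideal.Quotient.mk_surjective, ← RingHom.ker_eq_comap_bot, Ideal.mk_ker,
        sup_eq_left.2 hle]
    haveI := Ideal.map_isPrime_of_surjective (f := Ideal.Quotient.mk (Ideal.span {e})) Ideal.Quotient.mk_surjective
      (by rw [Ideal.mk_ker]; exact hle) (I := q)
    haveI : (q.map (Ideal.Quotient.mk (Ideal.span {e}))).LiesOver q := ⟨hcm.symm⟩
    haveI : Algebra.QuasiFiniteAt A (q.map (Ideal.Quotient.mk (Ideal.span {e}))) :=
      Algebra.QuasiFiniteAt.of_surjectiveOnStalks_of_liesOver q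
        (RingHom.surjectiveOnStalks_of_surjective Ideal.Quotient.mk_surjective) _
    refine hnq (q.map (Ideal.Quotient.mk (Ideal.span {e}))) ⟨?_⟩ inferInstance
    rw [Ideal.under, IsScalarTower.algebraMap_eq A C (C ⧸ _), ← Ideal.comap_comap, Ideal.Quotient.algebraMap_eq,
      hcm, hq]
  have h1e : 1 - e ∈ q := (Ideal.IsPrime.mem_or_mem ‹_› (by rw [mul_sub, mul_one, he.eq, sub_self]; exact zero_mem q : e * (1 - e) ∈ q)).resolve_left heq
  haveI : Module.Finite A (C ⧸ Ideal.span {1 - e}) := hfin
  have hle : Ideal.span {1 - e} ≤ q := (Ideal.span_singleton_le_iff_mem _).2 h1e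
  let Q := q.map (Ideal.Quotient.mk (Ideal.span {1 - e}))
  have hQc : Q.comap (Ideal.Quotient.mk (Ideal.span {1 - e})) = q := by
    rw [Ideal.comap_map_of_surjective _ Ideal.Quotient.mk_surjective, ← RingHom.ker_eq_comap_bot, Ideal.mk_ker,
      sup_eq_left.2 hle]
  haveI : Q.IsPrime := Ideal.map_isPrime_of_surjective Ideal.Quotient.mk_surjective (by rw [Ideal.mk_ker]; exact hle)
  haveI : Q.IsMaximal := Ideal.isMaximal_of_isIntegral_of_isMaximal_comap Q (by
    rw [IsScalarTower.algebraMap_eq A C (C ⧸ Ideal.span {1 - e}), ← Ideal.comap_comap, Ideal.Quotient.algebraMap_eq, hQc, hq]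
    exact IsLocalRing.maximalIdeal.isMaximal A)
  let fC : C →ₐ[A] Localization.AtPrime Q :=
    (IsScalarTower.toAlgHom A (C ⧸ Ideal.span {1 - e}) (Localization.AtPrime Q)).comp (Ideal.Quotient.mkₐ A (Ideal.span {1 - e}))
  have hu : ∀ y : q.primeCompl, IsUnit (fC (y : C)) :=
    fun y => IsLocalization.map_units (Localization.AtPrime Q) (⟨Ideal.Quotient.mk _ y, fun h => y.2 (hQc.le h)⟩ : Q.primeCompl)
  haveI : Module.Finite A (Localization.AtPrime Q) :=
    Module.Finite.of_surjective ((IsScalarTower.toAlgHom A (C ⧸ Ideal.span {1 - e}) (Localization.AtPrime Q)).toLinearMap)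
      (EssEtCompleteLib.surjective_atPrime (A := A) Q)
  let η : Localization.AtPrime q →ₐ[A] Localization.AtPrime Q := IsLocalization.liftAlgHom hu
  have hη : Function.Injective η := by
    refine (injective_iff_map_eq_zero η).2 fun z hz => ?_
    obtain ⟨x, s, rfl⟩ := IsLocalization.exists_mk'_eq q.primeCompl z
    rw [IsLocalization.coe_liftAlgHom, IsLocalization.lift_mk', Units.mul_left_eq_zero] at hz
    obtain ⟨⟨t, ht⟩, htx⟩ := (IsLocalization.map_eq_zero_iff Q.primeCompl _ _).1 hz
    obtain ⟨t, rfl⟩ := Ideal.Quotient.mk_surjective t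
    have htx' : Ideal.Quotient.mk (Ideal.span {1 - e}) (t * x) = 0 := by rw [map_mul]; exact htx
    obtain ⟨c, hc⟩ := Ideal.mem_span_singleton.1 (Ideal.Quotient.eq_zero_iff_mem.1 htx')
    refine (IsLocalization.mk'_eq_zero_iff _ _).2 ⟨⟨e * t, q.primeCompl.mul_mem heq (fun h => ht (Ideal.mem_map_of_mem _ h))⟩, ?_⟩
    show e * t * x = 0
    rw [mul_assoc, hc, ← mul_assoc, mul_sub, mul_one, he.eq, sub_self, zero_mul]
  refine Module.Finite.of_surjective (M := Localization.AtPrime Q) (((AlgEquiv.ofBijective η ⟨hη, ?_⟩).symm).toLinearMap) (AlgEquiv.surjective _)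
  intro z
  obtain ⟨f, rfl⟩ := EssEtCompleteLib.surjective_atPrime (A := A) Q z
  obtain ⟨c, rfl⟩ := Ideal.Quotient.mk_surjective f
  exact ⟨algebraMap C _ c, IsLocalization.lift_eq hu c⟩

/-- A local finite algebra over a henselian local ring is henselian, with local structure map. -/
theorem henselianLocalRing_of_finite (B : Type u) [CommRing B] [IsLocalRing B] [Algebra A B] [Module.Finite A B] :
    HenselianLocalRing B ∧ IsLocalHom (algebraMap A B) := by
  haveI : HenselianRing B ((maximalIdeal A).map (algebraMap A B)) := HenselLib.henselianRing_map_of_isIntegral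
  have hc : (maximalIdeal B).comap (algebraMap A B) = maximalIdeal A :=
    IsLocalRing.eq_maximalIdeal (Ideal.isMaximal_comap_of_isIntegral_of_isMaximal (maximalIdeal B))
  refine ⟨?_, ⟨fun a ha => by_contra fun h => ?_⟩⟩
  · haveI : HenselianRing B (maximalIdeal B) := HenselLib.henselianRing_of_le_radical
      (J := (maximalIdeal A).map (algebraMap A B)) (by
        rw [Ideal.radical_eq_sInf]
        refine le_sInf fun P ⟨hP, hPp⟩ => ?_
        haveI := hPp
        haveI : (P.comap (algebraMap A B)).IsMaximal := by
          rw [← (IsLocalRing.maximalIdeal.isMaximal A).eq_of_le (Ideal.IsPrime.ne_top inferInstance) (Ideal.map_le_iff_le_comap.1 hP)]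
          exact IsLocalRing.maximalIdeal.isMaximal A
        rw [IsLocalRing.eq_maximalIdeal (Ideal.isMaximal_of_isIntegral_of_isMaximal_comap (R := A) P ‹_›)])
    exact HenselLib.henselianLocalRing_of_henselianRing
  · exact (mem_maximalIdeal _).1 (show a ∈ (maximalIdeal B).comap (algebraMap A B) by rw [hc]; exact h) ha

/-- A henselian local ring is its own henselization. -/
theorem isHenselization_self (B : Type u) [CommRing B] [HenselianLocalRing B] : Hensel.IsHenselization B B where
  henselian := inferInstance
  universal _ _ _ f _ := ⟨f, RingHom.comp_id f, fun _ hg => hg⟩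

theorem isSepClosure_of_surjective (k K : Type u) [Field k] [Field K] [Algebra k K] [IsSepClosed K]
    (h : Function.Surjective (algebraMap k K)) : IsSepClosure k K :=
  ⟨inferInstance, ⟨fun x => by obtain ⟨y, rfl⟩ := h x; exact isSeparable_algebraMap y⟩⟩

/-- A henselian local ring with separably closed residue field is its own strict henselization. -/
theorem isStrictHenselization_self (B : Type u) [CommRing B] [HenselianLocalRing B] [IsSepClosed (ResidueField B)] :
    Hensel.IsStrictHenselization B B where
  henselian := inferInstance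
  isSepClosure := @isSepClosure_of_surjective _ _ _ _ (_) inferInstance fun x => by
      obtain ⟨b, rfl⟩ := residue_surjective x
      exact ⟨residue B b, rfl⟩
  universal T _ _ f _ τ hτ := ⟨f, ⟨RingHom.comp_id f, fun x => (RingHom.congr_fun hτ (residue B x)).symm⟩, fun _ hg => hg.1⟩

/-- A finite extension of a separably closed field is purely inseparable and separably closed. -/
theorem purelyInseparable_of_finite (k l : Type u) [Field k] [Field l] [Algebra k l] [FiniteDimensional k l]
    [IsSepClosed k] : IsPurelyInseparable k l ∧ IsSepClosed l :=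
  ⟨inferInstance, Algebra.IsAlgebraic.isSepClosed (F := k) (E := l)⟩

end QfHensFiniteLib
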