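import Groth.Agent.QfHensFiniteLib.Basic
import Mathlib.RingTheory.TensorProduct.Finite

/-! Strict henselization of a finite local algebra. -/

set_option autoImplicit false
set_option linter.style.haveILetI false
set_option maxHeartbeats 1600000
set_option synthInstance.maxHeartbeats 200000
universe u

open IsLocalRing TensorProduct

namespace QfHensFiniteLib

theorem exists_equiv_localization (A B S T : Type u) [CommRing A] [IsLocalRing A]
    [CommRing B] [IsLocalRing B] [Algebra A B] [Module.Finite A B]
    [CommRing S] [IsLocalRing S] [Algebra A S] [IsLocalHom (algebraMap A S)] [Hensel.IsStrictHenselization A S]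
    [CommRing T] [IsLocalRing T] [Algebra B T] [IsLocalHom (algebraMap B T)] [Hensel.IsStrictHenselization B T] :
    ∃ (q : Ideal (B ⊗[A] S)) (_ : q.IsMaximal), Nonempty (Localization.AtPrime q ≃ₐ[B] T) := by
  haveI := Hensel.IsStrictHenselization.henselian (R := A) (S := S)
  haveI := Hensel.IsStrictHenselization.henselian (R := B) (S := T)
  have hsS := Hensel.IsStrictHenselization.isSepClosure (R := A) (S := S)
  have hsT := Hensel.IsStrictHenselization.isSepClosure (R := B) (S := T)
  haveI := hsS.sep_closed
  haveI := hsT.sep_closed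
  haveI := hsS.separable
  haveI hAB : IsLocalHom (algebraMap A B) := ⟨fun a ha => by
    by_contra h
    have hc : (maximalIdeal B).comap (algebraMap A B) = maximalIdeal A :=
      eq_maximalIdeal (Ideal.isMaximal_comap_of_isIntegral_of_isMaximal (maximalIdeal B))
    exact (mem_maximalIdeal _).1 (show a ∈ (maximalIdeal B).comap (algebraMap A B) by rw [hc]; exact h) ha⟩
  letI : Algebra A T := ((algebraMap B T).comp (algebraMap A B)).toAlgebra
  haveI : IsScalarTower A B T := IsScalarTower.of_algebraMap_eq fun _ => rfl
  haveI hAT : IsLocalHom (algebraMap A T) :=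
    ⟨fun a ha => hAB.map_nonunit a (IsUnit.of_map (algebraMap B T) _ ha)⟩
  obtain ⟨τ₀, hτ₀⟩ : ∃ τ₀ : ResidueField S →+* ResidueField T,
      τ₀.comp (ResidueField.map (algebraMap A S)) = ResidueField.map (algebraMap A T) := by
    letI : Algebra (ResidueField A) (ResidueField T) := (ResidueField.map (algebraMap A T)).toAlgebra
    exact ⟨(IsSepClosed.lift : ResidueField S →ₐ[ResidueField A] ResidueField T).toRingHom,
      RingHom.ext fun x => (IsSepClosed.lift : ResidueField S →ₐ[ResidueField A] ResidueField T).commutes x⟩
  obtain ⟨φ, ⟨hφA, hφr⟩, -⟩ := Hensel.IsStrictHenselization.universal (R := A) (S := S) T (algebraMap A T) τ₀ hτ₀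
  haveI hφl : IsLocalHom φ := ⟨fun x hx => by
    by_contra h
    have h1 := hφr x
    rw [(residue_eq_zero_iff x).2 ((mem_maximalIdeal x).2 h), map_zero, residue_eq_zero_iff] at h1
    exact (mem_maximalIdeal _).1 h1 hx⟩
  let φA : S →ₐ[A] T := { φ with commutes' := fun a => RingHom.congr_fun hφA a }
  let g₀ : B ⊗[A] S →ₐ[B] T := Algebra.TensorProduct.lift (Algebra.ofId B T) φA fun _ _ => Commute.all _ _
  let q : Ideal (B ⊗[A] S) := (maximalIdeal T).comap g₀
  haveI : q.IsPrime := Ideal.comap_isPrime g₀ (maximalIdeal T)
  letI : Algebra S (B ⊗[A] S) := Algebra.TensorProduct.rightAlgebra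
  haveI : IsScalarTower A S (B ⊗[A] S) := Algebra.TensorProduct.right_isScalarTower
  haveI : Module.Finite S (B ⊗[A] S) := Module.Finite.equiv (Algebra.TensorProduct.commRight A S B).toLinearEquiv
  have hg₀S : ∀ s : S, g₀ (algebraMap S (B ⊗[A] S) s) = φ s := fun s => by
    show g₀ ((1 : B) ⊗ₜ s) = _
    rw [Algebra.TensorProduct.lift_tmul, map_one, one_mul]
    rfl
  haveI hqmax : q.IsMaximal := Ideal.isMaximal_of_isIntegral_of_isMaximal_comap (R := S) q (by
    have : q.comap (algebraMap S (B ⊗[A] S)) = maximalIdeal S := by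
      ext s
      show g₀ (algebraMap S (B ⊗[A] S) s) ∈ maximalIdeal T ↔ _
      rw [hg₀S, mem_maximalIdeal, mem_maximalIdeal, mem_nonunits_iff, mem_nonunits_iff, isUnit_map_iff φ]
    rw [this]; exact maximalIdeal.isMaximal S)
  refine ⟨q, hqmax, ?_⟩
  haveI : Module.Finite S (Localization.AtPrime q) :=
    Module.Finite.of_surjective ((IsScalarTower.toAlgHom S (B ⊗[A] S) (Localization.AtPrime q)).toLinearMap)
      (EssEtCompleteLib.surjective_atPrime (A := S) q)
  obtain ⟨hD, hD'⟩ := henselianLocalRing_of_finite (A := S) (Localization.AtPrime q)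
  haveI := hD
  haveI := hD'
  have hu : ∀ d : q.primeCompl, IsUnit (g₀ d) := fun d => not_not.1 d.2
  let g : Localization.AtPrime q →ₐ[B] T := IsLocalization.liftAlgHom hu
  have hgD : ∀ d, g (algebraMap (B ⊗[A] S) (Localization.AtPrime q) d) = g₀ d := fun d => IsLocalization.lift_eq hu d
  haveI hgl : IsLocalHom g.toRingHom := ⟨fun z hz => by
    obtain ⟨x, s, rfl⟩ := IsLocalization.exists_mk'_eq q.primeCompl z
    refine (IsLocalization.AtPrime.isUnit_mk'_iff (Localization.AtPrime q) q x s).2 fun h => ?_
    have h1 : IsUnit (g₀ x) := by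
      have h2 : g (IsLocalization.mk' _ x s) * g₀ s = g₀ x := by
        rw [← hgD s, ← hgD x, ← map_mul, IsLocalization.mk'_spec]
      rw [← h2]; exact IsUnit.mul hz (hu s)
    exact h h1⟩
  haveI hBD : IsLocalHom (algebraMap B (Localization.AtPrime q)) := ⟨fun b hb => by
    have h1 := hb.map g
    rw [g.commutes] at h1
    exact IsUnit.of_map (algebraMap B T) b h1⟩
  haveI : IsSepClosed (ResidueField (Localization.AtPrime q)) := (purelyInseparable_of_finite (ResidueField S) _).2
  let ρ := ResidueField.map g.toRingHom
  have hρs : Function.Surjective ρ := by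
    letI : Algebra (ResidueField (Localization.AtPrime q)) (ResidueField T) := ρ.toAlgebra
    haveI : IsScalarTower (ResidueField B) (ResidueField (Localization.AtPrime q)) (ResidueField T) :=
      IsScalarTower.of_algebraMap_eq fun x => by
        obtain ⟨b, rfl⟩ := residue_surjective x
        exact congrArg (residue T) (g.commutes b).symm
    haveI := hsT.separable
    haveI : Algebra.IsSeparable (ResidueField (Localization.AtPrime q)) (ResidueField T) :=
      Algebra.isSeparable_tower_top_of_isSeparable (ResidueField B) _ _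
    exact IsPurelyInseparable.surjective_algebraMap_of_isSeparable (ResidueField (Localization.AtPrime q)) (ResidueField T)
  let ρe := RingEquiv.ofBijective ρ ⟨ρ.injective, hρs⟩
  have hcompat : ρe.symm.toRingHom.comp (ResidueField.map (algebraMap B T)) =
      ResidueField.map (algebraMap B (Localization.AtPrime q)) := RingHom.ext fun x => by
    obtain ⟨b, rfl⟩ := residue_surjective x
    exact ρe.symm_apply_eq.2 (congrArg (residue T) (g.commutes b).symm)
  obtain ⟨ψ, ⟨hψB, hψr⟩, -⟩ := Hensel.IsStrictHenselization.universal (R := B) (S := T) (Localization.AtPrime q)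
    (algebraMap B (Localization.AtPrime q)) ρe.symm.toRingHom hcompat
  obtain ⟨w, -, hw⟩ := Hensel.IsStrictHenselization.universal (R := B) (S := T) T (algebraMap B T)
    (RingHom.id _) (RingHom.id_comp _)
  have hρψ : ∀ t, residue T (g (ψ t)) = residue T t := fun t => by
    show ρ (residue _ (ψ t)) = _
    rw [hψr]
    exact ρe.apply_symm_apply _
  have h1 : g.toRingHom.comp ψ = RingHom.id T :=
    (hw _ ⟨RingHom.ext fun b => (congrArg g (RingHom.congr_fun hψB b)).trans (g.commutes b), hρψ⟩).trans
      (hw _ ⟨RingHom.id_comp _, fun _ => rfl⟩).symm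
  have h2 : ψ.comp g.toRingHom = RingHom.id _ := by
    refine IsLocalization.ringHom_ext q.primeCompl ?_
    have hS : ψ.comp φ = (algebraMap (B ⊗[A] S) (Localization.AtPrime q)).comp (algebraMap S (B ⊗[A] S)) := by
      let ι := (algebraMap (B ⊗[A] S) (Localization.AtPrime q)).comp (algebraMap S (B ⊗[A] S))
      have hιA : ι.comp (algebraMap A S) = algebraMap A (Localization.AtPrime q) := RingHom.ext fun a => by
        show algebraMap (B ⊗[A] S) (Localization.AtPrime q) (algebraMap S (B ⊗[A] S) (algebraMap A S a)) = _
        rw [← IsScalarTower.algebraMap_apply A S (B ⊗[A] S), ← IsScalarTower.algebraMap_apply A (B ⊗[A] S) (Localization.AtPrime q)]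
      haveI : IsLocalHom (algebraMap A (Localization.AtPrime q)) := ⟨fun a ha => by
        rw [IsScalarTower.algebraMap_apply A B (Localization.AtPrime q)] at ha
        exact hAB.map_nonunit a (hBD.map_nonunit _ ha)⟩
      haveI : IsLocalHom ι := hD'
      obtain ⟨v, -, hv⟩ := Hensel.IsStrictHenselization.universal (R := A) (S := S) (Localization.AtPrime q)
        (algebraMap A (Localization.AtPrime q)) (ResidueField.map ι) (RingHom.ext fun x => by
          obtain ⟨a, rfl⟩ := residue_surjective x
          exact congrArg (residue _) (RingHom.congr_fun hιA a))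
      refine (hv _ ⟨RingHom.ext fun a => ?_, fun s => ρe.injective ?_⟩).trans (hv _ ⟨hιA, fun _ => rfl⟩).symm
      · show ψ (φ (algebraMap A S a)) = _
        rw [show φ (algebraMap A S a) = algebraMap B T (algebraMap A B a) from RingHom.congr_fun hφA a,
          show ψ (algebraMap B T (algebraMap A B a)) = _ from RingHom.congr_fun hψB _, ← IsScalarTower.algebraMap_apply]
      · show residue T (g (ψ (φ s))) = residue T (g (ι s))
        rw [hρψ, show g (ι s) = φ s from (hgD _).trans (hg₀S s)]
    refine RingHom.ext fun d => ?_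
    show ψ (g (algebraMap (B ⊗[A] S) (Localization.AtPrime q) d)) = algebraMap (B ⊗[A] S) (Localization.AtPrime q) d
    rw [hgD]
    induction d using TensorProduct.induction_on with
    | zero => simp
    | add x y hx hy => simp only [map_add, hx, hy]
    | tmul b s =>
      rw [Algebra.TensorProduct.lift_tmul, map_mul]
      show ψ (algebraMap B T b) * ψ (φ s) = _
      rw [show ψ (algebraMap B T b) = _ from RingHom.congr_fun hψB b, show ψ (φ s) = _ from RingHom.congr_fun hS s,
        IsScalarTower.algebraMap_apply B (B ⊗[A] S) (Localization.AtPrime q), RingHom.comp_apply, ← map_mul]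
      refine congrArg _ ?_
      show (b ⊗ₜ[A] (1 : S)) * ((1 : B) ⊗ₜ s) = _
      simp
  exact ⟨AlgEquiv.ofBijective g ⟨Function.LeftInverse.injective (g := ψ) fun x => RingHom.congr_fun h2 x,
    Function.RightInverse.surjective (g := ψ) fun x => RingHom.congr_fun h1 x⟩⟩

end QfHensFiniteLib
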